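import Groth.Agent.CotCx18.Refine
import Mathlib.AlgebraicGeometry.Morphisms.Immersion

/-! Two factorisations of a morphism through smooth schemes have a common smooth refinement. -/

set_option autoImplicit false

universe u

open CategoryTheory CategoryTheory.Limits AlgebraicGeometry

noncomputable section

namespace Groth.Agent.CotCx18

variable {X Y V V' : Scheme.{u}}

theorem exists_common_refinement (f : X ⟶ Y) (g : V ⟶ Y) [Smooth g] (i : X ⟶ V) [IsClosedImmersion i]
    (hi : i ≫ g = f) (g' : V' ⟶ Y) [Smooth g'] (i' : X ⟶ V') [IsClosedImmersion i'] (hi' : i' ≫ g' = f) :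
    ∃ (W : Scheme.{u}) (k : X ⟶ W) (p : W ⟶ V) (p' : W ⟶ V'), IsClosedImmersion k ∧ Smooth p ∧ Smooth p' ∧
      k ≫ p = i ∧ k ≫ p' = i' ∧ p' ≫ g' = p ≫ g ∧ Smooth (p ≫ g) := by
  let k₀ : X ⟶ pullback g g' := pullback.lift i i' (hi.trans hi'.symm)
  have : IsImmersion (k₀ ≫ pullback.fst g g') := by
    rw [pullback.lift_fst]
    infer_instance
  have : IsImmersion k₀ := IsImmersion.of_comp k₀ (pullback.fst g g')
  let ι := k₀.coborderRange.ι
  refine ⟨k₀.coborderRange, k₀.liftCoborder, ι ≫ pullback.fst g g', ι ≫ pullback.snd g g', inferInstance,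
    inferInstance, inferInstance, ?_, ?_, ?_, inferInstance⟩
  · rw [Scheme.Hom.liftCoborder_ι_assoc, pullback.lift_fst]
  · rw [Scheme.Hom.liftCoborder_ι_assoc, pullback.lift_snd]
  · rw [Category.assoc, Category.assoc, pullback.condition]

end Groth.Agent.CotCx18
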