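import Groth.Agent.CotCx18.Rank
import Groth.Agent.RegImm10.ConormalSES
import Groth.Agent.S8652
import Groth.Agent.S9386
import Groth.Agent.Om3.ConormalCart
import Groth.Agent.S5937

/-! The virtual relative dimension at a point and its behaviour under refinement and composition. -/

set_option autoImplicit false
set_option backward.isDefEq.respectTransparency false
set_option linter.style.haveILetI false

universe u

open CategoryTheory CategoryTheory.Limits AlgebraicGeometry TopologicalSpace Opposite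

noncomputable section

namespace Groth.Agent.CotCx18

open Groth.Agent QC70 Props58.LocFree

variable {X Y Z V W T : Scheme.{u}}

theorem rk_of_iso {M N : X.Modules} (e : M ≅ N) (x : X) : rk M x = rk N x := by
  refine LinearEquiv.finrank_eq (LinearEquiv.ofBijective (stalkLinear e.hom x)
    ⟨injective_stalkMapM_of_mono e.hom x, (FlatMor68.PullbackDescent.epi_iff e.hom).1 inferInstance x⟩)

theorem rk_of_restrict_free {M : X.Modules} {U : X.Opens} {n : ℕ} (i : M.restrict U.ι ≅ FlatMod.freeMod (↑U) n)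
    {x : X} (hx : x ∈ U) : rk M x = n := by
  obtain ⟨s, hs⟩ := exists_stalkBasis_of_iso i
  exact ((hs.stalkEquiv x hx).finrank_eq).symm.trans (Module.finrank_fin_fun _)

theorem rk_pullback (f : X ⟶ Y) {M : Y.Modules} (h : FlatMod.IsFinLocFree M) (x : X) :
    rk ((Scheme.Modules.pullback f).obj M) x = rk M (f x) := by
  obtain ⟨U, n, hxU, ⟨i⟩⟩ := h (f x)
  rw [rk_of_restrict_free i hxU]
  refine rk_of_restrict_free (U := f ⁻¹ᵁ U) ?_ hxU
  exact ((Amp73.pullRestrictIso f U).app M).symm ≪≫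
    (Scheme.Modules.pullback (f ∣_ U)).mapIso
      (((Scheme.Modules.restrictFunctorIsoPullback U.ι).app M).symm ≪≫ i) ≪≫
    FrB.pullbackFreeIso (f ∣_ U) n

theorem isFinLocFree_omega (g : V ⟶ Y) [Smooth g] {Ω : V.Modules} {d : OmegaSh.Der g Ω}
    (hd : OmegaSh.IsUniversal d) : FlatMod.IsFinLocFree Ω :=
  S5018.result g ((S1488.result g).1 inferInstance).2 Ω d hd

/-- Ranks of differentials add along smooth morphisms. -/
theorem rk_omega (p : W ⟶ V) [Smooth p] (g : V ⟶ Y) [Smooth g] {Ω : V.Modules} {d : OmegaSh.Der g Ω}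
    (hd : OmegaSh.IsUniversal d) {gW : W ⟶ Y} (hgW : p ≫ g = gW) {ΩW : W.Modules} {dW : OmegaSh.Der gW ΩW}
    (hdW : OmegaSh.IsUniversal dW) {ΩP : W.Modules} {dP : OmegaSh.Der p ΩP} (hdP : OmegaSh.IsUniversal dP)
    (w : W) : rk ΩW w = rk Ω (p w) + rk ΩP w := by
  subst hgW
  have hsm : MoreMor.IsFormallySmoothHom p := ((S1488.result p).1 inferInstance).2
  obtain ⟨c, hc, -⟩ := Om3.existsUnique_diffCompat (f := g) (f' := p ≫ g) (b := 𝟙 Y) p (Category.comp_id _) hd dW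
  obtain ⟨c₂, hc₂, -⟩ := Om3.existsUnique_diffCompat (f := p ≫ g) (f' := p) (b := g) (𝟙 W)
    (Category.id_comp _).symm hdW dP
  haveI : Mono c := S5016.result g (p ≫ g) p rfl hsm Ω d hd ΩW dW hdW c hc
  obtain ⟨hepi, him⟩ := S5975.result p g Ω d hd ΩW dW hdW ΩP dP hdP c hc c₂ hc₂
  let c₃ : ΩW ⟶ ΩP := (Scheme.Modules.pullbackId W).inv.app ΩW ≫ c₂
  have w₃ : c ≫ c₃ = 0 := by
    rw [← imageSubobject_arrow_comp c, Category.assoc]
    have h2 : (imageSubobject c).arrow ≫ c₃ = 0 := by rw [him, kernelSubobject_arrow_comp]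
    rw [h2, comp_zero]
  let S := ShortComplex.mk c c₃ w₃
  have hS : S.ShortExact :=
    { exact := S.exact_iff_image_eq_kernel.2 him
      mono_f := ‹Mono c›
      epi_g := epi_comp _ _ }
  obtain ⟨_, _⟩ := free_stalk_locFree (Strict99.isFinLocFree_pullback p (isFinLocFree_omega g hd)) w
  have := rk_middle S hS (isFinLocFree_omega p hdP) w
  rw [← rk_pullback p (isFinLocFree_omega g hd) w]
  exact this

/-- The rank of the differentials minus the rank of the conormal sheaf. -/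
def delta (i : X ⟶ V) (Ω : V.Modules) (x : X) : ℤ := rk Ω (i x) - rk (Omega.conormal i) x

theorem delta_eq_of_refine (g : V ⟶ Y) [Smooth g] (i : X ⟶ V) [IsClosedImmersion i] (k : X ⟶ W)
    [IsClosedImmersion k] (p : W ⟶ V) [Smooth p] (hk : k ≫ p = i) (hN : FlatMod.IsFinLocFree (Omega.conormal i))
    {gW : W ⟶ Y} [Smooth gW] (hgW : p ≫ g = gW)
    {Ω : V.Modules} {d : OmegaSh.Der g Ω} (hd : OmegaSh.IsUniversal d)
    {ΩW : W.Modules} {dW : OmegaSh.Der gW ΩW} (hdW : OmegaSh.IsUniversal dW) (x : X) :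
    delta i Ω x = delta k ΩW x := by
  subst hk hgW
  obtain ⟨Q, ψ, χ, ρ, σ, w₁, w₂, hQ, hS₁, hS₂, -⟩ := exists_sequences k p g hd hdW
  have hΩ := isFinLocFree_omega g hd
  have hΩW := isFinLocFree_omega (p ≫ g) hdW
  obtain ⟨_, _⟩ := free_stalk_locFree (Strict99.isFinLocFree_pullback (k ≫ p) hΩ) x
  obtain ⟨_, _⟩ := free_stalk_locFree hN x
  have e₁ := rk_middle _ hS₁ hQ x
  have e₂ := rk_middle _ hS₂ hQ x
  dsimp only at e₁ e₂
  have a₁ := rk_pullback (k ≫ p) hΩ x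
  have a₂ := rk_pullback k hΩW x
  simp only [delta]
  omega

/-- The virtual relative dimension does not depend on the factorisation. -/
theorem delta_eq (f : X ⟶ Y) (hf : ∀ x : X, Synt.IsKoszulAt f x) (g : V ⟶ Y) [Smooth g] (i : X ⟶ V)
    [IsClosedImmersion i] (hi : i ≫ g = f) (g' : W ⟶ Y) [Smooth g'] (i' : X ⟶ W) [IsClosedImmersion i']
    (hi' : i' ≫ g' = f) {Ω : V.Modules} {d : OmegaSh.Der g Ω} (hd : OmegaSh.IsUniversal d)
    {Ω' : W.Modules} {d' : OmegaSh.Der g' Ω'} (hd' : OmegaSh.IsUniversal d') (x : X) :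
    delta i Ω x = delta i' Ω' x := by
  obtain ⟨P, k, p, p', hk, hp, hp', hkp, hkp', hgg, hs⟩ := exists_common_refinement f g i hi g' i' hi'
  obtain ⟨ΩW, dW, hdW⟩ := OmegaGen18.exists_isUniversal (p ≫ g)
  have h₁ := (isFinLocFree_factor f hf g i hi Ω d hd).2
  have h₂ := (isFinLocFree_factor f hf g' i' hi' Ω' d' hd').2
  exact (delta_eq_of_refine g i k p hkp h₁ rfl hd hdW x).trans
    (delta_eq_of_refine g' i' k p' hkp' h₂ hgg hd' hdW x).symm

/-- Restriction to an open subscheme of the ambient scheme. -/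
theorem delta_restrict (g : V ⟶ Y) [Smooth g] (i : X ⟶ V) [IsClosedImmersion i]
    (hN : FlatMod.IsFinLocFree (Omega.conormal i))
    {Ω : V.Modules} {d : OmegaSh.Der g Ω} (hd : OmegaSh.IsUniversal d) (V₀ : V.Opens)
    {Ω₀ : (V₀ : Scheme.{u}).Modules} {d₀ : OmegaSh.Der (V₀.ι ≫ g) Ω₀} (hd₀ : OmegaSh.IsUniversal d₀)
    (x : (i ⁻¹ᵁ V₀ : X.Opens).toScheme) :
    delta (i ∣_ V₀) Ω₀ x = delta i Ω x.1 := by
  obtain ⟨ΩP, dP, hdP⟩ := OmegaGen18.exists_isUniversal V₀.ι
  have e₁ := rk_omega V₀.ι g hd rfl hd₀ hdP ((i ∣_ V₀) x)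
  have hz : IsZero ΩP := (S5937.result V₀.ι ΩP dP hdP).1 inferInstance
  have e₀ : rk ΩP ((i ∣_ V₀) x) = 0 := by
    haveI : Subsingleton (ΩP.presheaf.stalk ((i ∣_ V₀) x)) := subsingleton_of_forall_eq 0 fun s => by
      have h := congrArg (fun φ : ΩP ⟶ ΩP => stalkMapM φ ((i ∣_ V₀) x) s) (hz.eq_zero_of_src (𝟙 ΩP))
      simp only at h
      rw [← stalkMapM_zero (M := ΩP) (N := ΩP) ((i ∣_ V₀) x) s, ← h]
      exact (stalkMapM_id ((i ∣_ V₀) x) s).symm
    exact Module.finrank_zero_of_subsingleton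
  have hsq : (i ⁻¹ᵁ V₀).ι ≫ i = (i ∣_ V₀) ≫ V₀.ι := (morphismRestrict_ι i V₀).symm
  obtain ⟨φ, hφ, -⟩ := Om3.existsUnique_conormalMap (i := i ∣_ V₀) (i' := i) (g := V₀.ι) (gZ := (i ⁻¹ᵁ V₀).ι) hsq
  haveI : IsIso φ := (Om3.epi_and_isIso (isPullback_morphismRestrict i V₀) hφ).2 inferInstance
  have e₂ := (rk_pullback (i ⁻¹ᵁ V₀).ι hN x).symm.trans (rk_of_iso (asIso φ) x)
  have e₃ : V₀.ι ((i ∣_ V₀) x) = i x.1 := by
    rw [← Scheme.Hom.comp_apply, ← hsq]; rfl
  rw [e₀, e₃] at e₁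
  simp only [delta]
  change rk (Omega.conormal i) x.1 = _ at e₂
  omega

/-- The virtual relative dimension of a composition. -/
theorem delta_comp (g : W ⟶ Z) [Smooth g] (i : Y ⟶ W) [IsClosedImmersion i]
    (hi : RegImm.IsRegularImmersion .koszul i) (p : T ⟶ W) [Smooth p] {T' : Scheme.{u}} (q : T' ⟶ Y)
    (i' : T' ⟶ T) [IsClosedImmersion i'] (hsq : IsPullback q i' i p) [Smooth q]
    (j : X ⟶ T') [IsClosedImmersion j] (hj : RegImm.IsRegularImmersion .koszul j)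
    {Ω : W.Modules} {d : OmegaSh.Der g Ω} (hd : OmegaSh.IsUniversal d)
    {ΩT : T.Modules} {dT : OmegaSh.Der (p ≫ g) ΩT} (hdT : OmegaSh.IsUniversal dT)
    {ΩQ : T'.Modules} {dQ : OmegaSh.Der q ΩQ} (hdQ : OmegaSh.IsUniversal dQ) (x : X) :
    delta (j ≫ i') ΩT x = delta i Ω (q (j x)) + delta j ΩQ x := by
  obtain ⟨ΩP, dP, hdP⟩ := OmegaGen18.exists_isUniversal p
  have e₁ := rk_omega p g hd rfl hdT hdP (i' (j x))
  have hw : i (q (j x)) = p (i' (j x)) := by
    rw [← Scheme.Hom.comp_apply, hsq.w, Scheme.Hom.comp_apply]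
  obtain ⟨c, hc, -⟩ := Om3.existsUnique_diffCompat (f := p) (f' := q) (b := i) i' hsq.w hdP dQ
  haveI : IsIso c := S9386.result p i i' q hsq.flip ΩP dP hdP ΩQ dQ hdQ c hc
  have e₂ := (rk_of_iso (asIso c) (j x)).symm.trans (rk_pullback i' (isFinLocFree_omega p hdP) (j x))
  obtain ⟨φ, hφ, -⟩ := Om3.existsUnique_conormalMap (i := i') (i' := i) (g := p) (gZ := q) hsq.w
  haveI : IsIso φ := (Om3.epi_and_isIso hsq.flip hφ).2 inferInstance
  have hi' : RegImm.IsRegularImmersion .koszul i' := S8652.result i p i' q hsq hi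
  have hNi := isFinLocFree_conormal_of_koszul i hi
  have hNi' := isFinLocFree_conormal_of_koszul i' hi'
  have e₃ := (rk_pullback q hNi (j x)).symm.trans (rk_of_iso (asIso φ) (j x))
  obtain ⟨φ₁, hφ₁, -⟩ := Om3.existsUnique_conormalMap (i := j ≫ i') (i' := i') (g := 𝟙 T) (gZ := j)
    (Category.comp_id _).symm
  obtain ⟨φ₂, hφ₂, -⟩ := Om3.existsUnique_conormalMap (i := j) (i' := j ≫ i') (g := i') (gZ := 𝟙 X)
    (Category.id_comp _)
  haveI := hj
  obtain ⟨w, hS⟩ := RegImm10.shortExact_conormal_immersions i' j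
    (FlatMor68.KoszulCalc.lciProp_of_isRegularImmersion j hj) hφ₁ hφ₂
  obtain ⟨_, _⟩ := free_stalk_locFree (Strict99.isFinLocFree_pullback j hNi') x
  have e₄ := rk_middle _ hS (isFinLocFree_conormal_of_koszul j hj) x
  dsimp only at e₄
  have e₅ := rk_pullback j hNi' x
  simp only [delta, Scheme.Hom.comp_apply] at *
  rw [hw] at *
  omega

end Groth.Agent.CotCx18
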