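import Mathlib.Algebra.Homology.Double
import Mathlib.Algebra.Homology.HomologySequence
import Mathlib.Algebra.Homology.HomologicalComplexAbelian
import Mathlib.Algebra.Homology.QuasiIso

/-! Two-term complexes: a morphism with short exact columns and identity cokernel is a quasi-isomorphism. -/

set_option autoImplicit false

universe v u

open CategoryTheory CategoryTheory.Limits CategoryTheory.Category HomologicalComplex

noncomputable section

namespace Groth.Agent.CotCx18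

variable {C : Type u} [Category.{v} C] [Abelian C]

theorem rel₀ : (ComplexShape.up ℤ).Rel (-1 : ℤ) 0 := neg_add_cancel (1 : ℤ)

theorem acyclic_double_id (Q : C) : (double (𝟙 Q) rel₀).Acyclic := by
  intro k
  have hne : (-1 : ℤ) ≠ 0 := by decide
  have hd : IsIso ((double (𝟙 Q) rel₀).d (-1) 0) := by
    rw [double_d _ _ hne]
    infer_instance
  by_cases h₁ : k = -1
  · subst h₁
    rw [exactAt_iff' _ (-2) (-1) 0 (by simp) (by simp)]
    have : Mono ((double (𝟙 Q) rel₀).d (-1) 0) := inferInstance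
    exact (ShortComplex.exact_iff_mono _ ((isZero_double_X (𝟙 Q) rel₀ (-2) (by decide) (by decide)).eq_of_src _ _)).2 this
  by_cases h₀ : k = 0
  · subst h₀
    rw [exactAt_iff' _ (-1) 0 1 (by simp) (by simp)]
    have : Epi ((double (𝟙 Q) rel₀).d (-1) 0) := inferInstance
    exact (ShortComplex.exact_iff_epi _ ((isZero_double_X (𝟙 Q) rel₀ 1 (by decide) (by decide)).eq_of_tgt _ _)).2 this
  exact ShortComplex.exact_of_isZero_X₂ _ (isZero_double_X (𝟙 Q) rel₀ k h₁ h₀)

theorem exists_quasiIso_double {A B A' B' Q : C} (φ : A ⟶ B) (φ' : A' ⟶ B') (a : A ⟶ A') (b : B ⟶ B')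
    (comm : φ ≫ b = a ≫ φ') (p : A' ⟶ Q) (q : B' ⟶ Q) (hpq : φ' ≫ q = p)
    (wa : a ≫ p = 0) (wb : b ≫ q = 0) (ha : (ShortComplex.mk a p wa).ShortExact)
    (hb : (ShortComplex.mk b q wb).ShortExact) :
    ∃ F : double φ rel₀ ⟶ double φ' rel₀, QuasiIso F := by
  have hne : (-1 : ℤ) ≠ 0 := by decide
  let F : double φ rel₀ ⟶ double φ' rel₀ :=
    mkHomFromDouble rel₀ hne (a ≫ (doubleXIso₀ φ' rel₀).inv) (b ≫ (doubleXIso₁ φ' rel₀ hne).inv)
      (by rw [double_d _ _ hne]; simp only [assoc, Iso.inv_hom_id_assoc]; rw [← assoc φ b, comm, assoc])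
      (fun k hk => (isZero_double_X φ' rel₀ k (by simp at hk; omega) (by simp at hk; omega)).eq_of_tgt _ _)
  let G : double φ' rel₀ ⟶ double (𝟙 Q) rel₀ :=
    mkHomFromDouble rel₀ hne (p ≫ (doubleXIso₀ (𝟙 Q) rel₀).inv) (q ≫ (doubleXIso₁ (𝟙 Q) rel₀ hne).inv)
      (by rw [double_d _ _ hne]; simp only [assoc, Iso.inv_hom_id_assoc, id_comp]; rw [← assoc φ' q, hpq])
      (fun k hk => (isZero_double_X (𝟙 Q) rel₀ k (by simp at hk; omega) (by simp at hk; omega)).eq_of_tgt _ _)
  have hFG : F ≫ G = 0 := by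
    apply from_double_hom_ext
    · simp [F, G, reassoc_of% wa]
    · simp [F, G, reassoc_of% wb]
    all_goals exact hne
  let S := ShortComplex.mk F G hFG
  have hS : S.ShortExact := by
    refine HomologicalComplex.shortExact_of_degreewise_shortExact S fun k => ?_
    by_cases h₁ : k = -1
    · subst h₁
      refine ShortComplex.shortExact_of_iso (ShortComplex.isoMk (doubleXIso₀ φ rel₀) (doubleXIso₀ φ' rel₀)
        (doubleXIso₀ (𝟙 Q) rel₀) ?_ ?_).symm ha
      · show (doubleXIso₀ φ rel₀).hom ≫ a = F.f (-1) ≫ (doubleXIso₀ φ' rel₀).hom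
        simp [F]
      · show (doubleXIso₀ φ' rel₀).hom ≫ p = G.f (-1) ≫ (doubleXIso₀ (𝟙 Q) rel₀).hom
        simp [G]
    by_cases h₀ : k = 0
    · subst h₀
      refine ShortComplex.shortExact_of_iso (ShortComplex.isoMk (doubleXIso₁ φ rel₀ hne) (doubleXIso₁ φ' rel₀ hne)
        (doubleXIso₁ (𝟙 Q) rel₀ hne) ?_ ?_).symm hb
      · show (doubleXIso₁ φ rel₀ hne).hom ≫ b = F.f 0 ≫ (doubleXIso₁ φ' rel₀ hne).hom
        simp [F]
      · show (doubleXIso₁ φ' rel₀ hne).hom ≫ q = G.f 0 ≫ (doubleXIso₁ (𝟙 Q) rel₀ hne).hom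
        simp [G]
    exact
      { exact := ShortComplex.exact_of_isZero_X₂ _ (isZero_double_X φ' rel₀ k h₁ h₀)
        mono_f := ⟨fun x y _ => (isZero_double_X φ rel₀ k h₁ h₀).eq_of_tgt x y⟩
        epi_g := ⟨fun x y _ => (isZero_double_X (𝟙 Q) rel₀ k h₁ h₀).eq_of_src x y⟩ }
  refine ⟨F, ⟨fun k => ?_⟩⟩
  rw [quasiIsoAt_iff_isIso_homologyMap]
  have hz : ∀ i, IsZero (S.X₃.homology i) := fun i => ((exactAt_iff_isZero_homology _ _).1 (acyclic_double_id Q i))
  have : Epi (homologyMap F k) := (hS.homology_exact₂ k).epi_f ((hz k).eq_of_tgt _ _)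
  have : Mono (homologyMap F k) := (hS.homology_exact₁ (k - 1) k (by simp)).mono_g ((hz (k - 1)).eq_of_src _ _)
  exact isIso_of_mono_of_epi _

end Groth.Agent.CotCx18
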