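import Groth.Agent.CotCx18.Common
import Groth.Agent.CAlg8.Canon.Basic
import Groth.Agent.S8656
import Groth.Prelude.Def_KRR

/-! Ranks and classes of the modules in a two-term cotangent complex. -/

set_option autoImplicit false
set_option backward.isDefEq.respectTransparency false
set_option linter.style.haveILetI false

universe u

open CategoryTheory CategoryTheory.Limits AlgebraicGeometry TopologicalSpace Opposite

noncomputable section

namespace Groth.Agent.CotCx18

open Groth.Agent QC70 Props58.LocFree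

variable {X Z : Scheme.{u}}

/-- The rank of the stalk of a module. -/
abbrev rk (M : X.Modules) (x : X) : ℕ := Module.finrank (X.presheaf.stalk x) (M.presheaf.stalk x)

theorem free_of_restrict {U : X.Opens} {M : X.Modules} {a : ℕ}
    (h : FlatMod.IsFinLocFreeOfRank a ((Scheme.Modules.restrictFunctor U.ι).obj M)) {x : X} (hx : x ∈ U) :
    Module.Free (X.presheaf.stalk x) (M.presheaf.stalk x) ∧
      Module.Finite (X.presheaf.stalk x) (M.presheaf.stalk x) ∧ rk M x = a := by
  obtain ⟨U', hx', ⟨e⟩⟩ := h ⟨x, hx⟩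
  let W : X.Opens := U.ι ''ᵁ U'
  let θ := U.ι.isoImage U'
  have hθ : θ.inv ≫ U'.ι ≫ U.ι = W.ι := U.ι.isoImage_inv_ι U'
  let i : M.restrict W.ι ≅ FlatMod.freeMod (↑W) a :=
    (Scheme.Modules.restrictFunctorCongr hθ.symm).app M ≪≫
      (Scheme.Modules.restrictFunctorComp θ.inv (U'.ι ≫ U.ι)).app M ≪≫
      (Scheme.Modules.restrictFunctor θ.inv).mapIso ((Scheme.Modules.restrictFunctorComp U'.ι U.ι).app M ≪≫ e) ≪≫
      (Scheme.Modules.restrictFunctorIsoPullback θ.inv).app _ ≪≫ FrB.pullbackFreeIso θ.inv a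
  obtain ⟨s, hs⟩ := exists_stalkBasis_of_iso i
  have hxW : x ∈ W := ⟨⟨x, hx⟩, hx', rfl⟩
  exact ⟨hs.free_stalk x hxW, hs.finite_stalk x hxW,
    ((hs.stalkEquiv x hxW).finrank_eq).symm.trans (Module.finrank_fin_fun _)⟩

theorem free_stalk_locFree {M : X.Modules} (h : FlatMod.IsFinLocFree M) (x : X) :
    Module.Free (X.presheaf.stalk x) (M.presheaf.stalk x) ∧
      Module.Finite (X.presheaf.stalk x) (M.presheaf.stalk x) := by
  obtain ⟨U, n, s, hx, hs⟩ := isFinLocFree_iff.mp h x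
  exact ⟨hs.free_stalk x hx, hs.finite_stalk x hx⟩

theorem rk_middle (S : ShortComplex X.Modules) (hS : S.ShortExact) (h₃ : FlatMod.IsFinLocFree S.X₃) (x : X)
    [Module.Free (X.presheaf.stalk x) (S.X₁.presheaf.stalk x)]
    [Module.Finite (X.presheaf.stalk x) (S.X₁.presheaf.stalk x)] :
    rk S.X₂ x = rk S.X₁ x + rk S.X₃ x := by
  haveI := hS.mono_f
  haveI := hS.epi_g
  obtain ⟨_, _⟩ := free_stalk_locFree h₃ x
  let F : S.X₁.presheaf.stalk x →ₗ[X.presheaf.stalk x] S.X₂.presheaf.stalk x := stalkLinear S.f x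
  let G : S.X₂.presheaf.stalk x →ₗ[X.presheaf.stalk x] S.X₃.presheaf.stalk x := stalkLinear S.g x
  have hF : Function.Injective F := injective_stalkMapM_of_mono S.f x
  have hG : Function.Surjective G := (FlatMor68.PullbackDescent.epi_iff S.g).1 inferInstance x
  have hex : Function.Exact F G := fun e => ⟨stalkMapM_exact S hS.exact x e, by
    rintro ⟨d, rfl⟩
    change stalkMapM S.g x (stalkMapM S.f x d) = 0
    rw [← stalkMapM_comp, S.zero, stalkMapM_zero]⟩
  obtain ⟨l, hl⟩ := Module.projective_lifting_property G LinearMap.id hG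
  obtain ⟨e, -⟩ := (hex.splitSurjectiveEquiv hF) ⟨l, hl⟩
  rw [rk, e.finrank_eq, Module.finrank_prod]

theorem cl_middle (S : ShortComplex X.Modules) (hS : S.ShortExact) (h₁ : FlatMod.IsFinLocFree S.X₁)
    (h₂ : FlatMod.IsFinLocFree S.X₂) (h₃ : FlatMod.IsFinLocFree S.X₃) :
    KRR.cl X S.X₂ = KRR.cl X S.X₁ + KRR.cl X S.X₃ := by
  simp only [KRR.cl, KZero.clSub]
  rw [dif_pos h₁, dif_pos h₂, dif_pos h₃, ← sub_eq_zero, ← sub_sub,
    ← QuotientAddGroup.mk_sub, ← QuotientAddGroup.mk_sub, QuotientAddGroup.eq_zero_iff]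
  exact AddSubgroup.subset_closure ⟨S, h₁, h₂, h₃, hS, rfl⟩

theorem isFinLocFree_conormal_of_koszul (i : X ⟶ Z) [QuasiCompact i]
    (h : RegImm.IsRegularImmersion .koszul i) : FlatMod.IsFinLocFree (Omega.conormal i) := by
  haveI := CAlg8.Canon.qcoh_conormal i
  intro x
  obtain ⟨U, hx, hcl, rs, hreg, hker⟩ := h.2 x
  have hP : IsAffineOpen (i ⁻¹ᵁ U.1) := by
    haveI : IsAffine (U.1 : Scheme.{u}) := U.2
    exact isAffine_of_isAffineHom (i ∣_ U.1)
  have hI : Ideal.span (Set.range rs.get) = RingHom.ker (i.app U.1).hom := by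
    rw [hker, Set.range_list_get]
  obtain ⟨b⟩ := Om3.exists_basis_conormal i U.2 hP
    (Curves2.Glue.surjective_app_of_closedImmersion i U.1 hcl U.2 le_rfl) rs.get
    (by rw [List.ofFn_get]; exact (Koszul19.kR_iff _).2 hreg) hI
  exact ⟨i ⁻¹ᵁ U.1, _, hx, FlatMor68.LocFree.restrict_iso_free _ hP _ b.equivFun⟩

/-- The conormal sheaf and the pulled back differentials of a smooth factorisation of an lci morphism are
finite locally free. -/
theorem isFinLocFree_factor {Y : Scheme.{u}} (f : X ⟶ Y) (hf : ∀ x : X, Synt.IsKoszulAt f x)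
    (g : Z ⟶ Y) [Smooth g] (i : X ⟶ Z) [IsClosedImmersion i] (hi : i ≫ g = f)
    (Ω : Z.Modules) (d : OmegaSh.Der g Ω) (hd : OmegaSh.IsUniversal d) :
    FlatMod.IsFinLocFree ((Scheme.Modules.pullback i).obj Ω) ∧ FlatMod.IsFinLocFree (Omega.conormal i) :=
  ⟨Strict99.isFinLocFree_pullback i (S5018.result g ((S1488.result g).1 inferInstance).2 Ω d hd),
    isFinLocFree_conormal_of_koszul i (S8656.result f hf g i hi)⟩

end Groth.Agent.CotCx18
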