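import Groth.Agent.Om3.ConormalSeq
import Groth.Agent.CotCx18.Double
import Groth.Agent.DCK91.PullFlat
import Groth.Agent.Strict99.Basic
import Groth.Agent.Props58.LocFree.Criteria
import Groth.Agent.Props58.PullTensor
import Groth.Agent.Rib52.ExtClass
import Groth.Agent.OmegaGen18.Exists
import Groth.Agent.S5016
import Groth.Agent.S5018
import Groth.Agent.S5975
import Groth.Agent.S1488

/-! Refining a factorisation by a smooth morphism does not change the two-term cotangent complex. -/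

set_option autoImplicit false
set_option backward.isDefEq.respectTransparency false

universe u

open CategoryTheory CategoryTheory.Limits AlgebraicGeometry TopologicalSpace Opposite

noncomputable section

namespace Groth.Agent.CotCx18

open Groth.Agent QC70

variable {X V W Y : Scheme.{u}}

theorem hom_ext_pullSect (f : X ⟶ V) {M : V.Modules} {N : X.Modules}
    {α β : (Scheme.Modules.pullback f).obj M ⟶ N}
    (h : ∀ (U : V.Opens) (s : Γ(M, U)), α.app (f ⁻¹ᵁ U) (OmegaSh.pullSect f M U s) =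
      β.app (f ⁻¹ᵁ U) (OmegaSh.pullSect f M U s)) : α = β := by
  apply ((Scheme.Modules.pullbackPushforwardAdjunction f).homEquiv _ _).injective
  refine Scheme.Modules.hom_ext _ _ fun U => ?_
  ext s
  rw [Adjunction.homEquiv_unit, Adjunction.homEquiv_unit]
  exact h U s

theorem pullbackId_inv_app (M : X.Modules) (U : X.Opens) (s : Γ(M, U)) :
    ((Scheme.Modules.pullbackId X).inv.app M).app U s = OmegaSh.pullSect (𝟙 X) M U s := by
  have h := unit_conjugateEquiv Adjunction.id (Scheme.Modules.pullbackPushforwardAdjunction (𝟙 X))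
    (Scheme.Modules.pullbackId X).hom M
  rw [Scheme.Modules.conjugateEquiv_pullbackId_hom] at h
  have h1 : ((Scheme.Modules.pullbackId X).hom.app M).app U (OmegaSh.pullSect (𝟙 X) M U s) = s :=
    (ConcreteCategory.congr_hom (congrArg (fun φ => Scheme.Modules.Hom.app φ U) h) s).symm
  have h2 : ((Scheme.Modules.pullbackId X).inv.app M).app U
      (((Scheme.Modules.pullbackId X).hom.app M).app U (OmegaSh.pullSect (𝟙 X) M U s)) =
      OmegaSh.pullSect (𝟙 X) M U s :=
    ConcreteCategory.congr_hom (congrArg (fun φ => Scheme.Modules.Hom.app φ U)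
      ((Scheme.Modules.pullbackId X).hom_inv_id_app M)) _
  rwa [h1] at h2

variable (k : X ⟶ W) (p : W ⟶ V)

theorem pullbackComp_inv_pullSect (M : V.Modules) (U : V.Opens) (s : Γ(M, U)) :
    ((Scheme.Modules.pullbackComp k p).inv.app M).app ((k ≫ p) ⁻¹ᵁ U) (OmegaSh.pullSect (k ≫ p) M U s) =
      OmegaSh.pullSect k ((Scheme.Modules.pullback p).obj M) (p ⁻¹ᵁ U) (OmegaSh.pullSect p M U s) :=
  Props58.PullTensor.pullS_comp k p M U s

/-- The two short exact sequences comparing the two-term cotangent complexes of two factorisations related by a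
smooth morphism of the ambient schemes. -/
theorem exists_sequences [IsClosedImmersion k] [Smooth p] [IsClosedImmersion (k ≫ p)] (g : V ⟶ Y)
    {Ω : V.Modules} {d : OmegaSh.Der g Ω} (hd : OmegaSh.IsUniversal d)
    {ΩW : W.Modules} {dW : OmegaSh.Der (p ≫ g) ΩW} (hdW : OmegaSh.IsUniversal dW) :
    ∃ (Q : X.Modules) (ψ : Omega.conormal (k ≫ p) ⟶ Omega.conormal k)
      (χ : (Scheme.Modules.pullback (k ≫ p)).obj Ω ⟶ (Scheme.Modules.pullback k).obj ΩW)
      (ρ : Omega.conormal k ⟶ Q) (σ : (Scheme.Modules.pullback k).obj ΩW ⟶ Q)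
      (w₁ : ψ ≫ ρ = 0) (w₂ : χ ≫ σ = 0),
      FlatMod.IsFinLocFree Q ∧ (ShortComplex.mk ψ ρ w₁).ShortExact ∧ (ShortComplex.mk χ σ w₂).ShortExact ∧
      (∀ (φ : Omega.conormal (k ≫ p) ⟶ (Scheme.Modules.pullback (k ≫ p)).obj Ω)
        (φW : Omega.conormal k ⟶ (Scheme.Modules.pullback k).obj ΩW),
        OmegaSh.IsConormalDiff (k ≫ p) d φ → OmegaSh.IsConormalDiff k dW φW →
          φ ≫ χ = ψ ≫ φW ∧ φW ≫ σ = ρ) := by
  have hsm : MoreMor.IsFormallySmoothHom p := ((S1488.result p).1 inferInstance).2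
  obtain ⟨ΩP, dP, hdP⟩ := OmegaGen18.exists_isUniversal p
  have hsq : 𝟙 X ≫ (k ≫ p) = k ≫ p := Category.id_comp _
  obtain ⟨ψ₀, hψ₀, -⟩ := Om3.existsUnique_conormalMap (i := k) (i' := k ≫ p) (g := p) (gZ := 𝟙 X) hsq
  obtain ⟨φP, hφP⟩ := Rib52.exists_conormalDiff k dP
  obtain ⟨w₀, hS₀⟩ := Om3.conormal_omega_shortExact_of_smooth hdP hψ₀ hφP
  obtain ⟨c, hc, -⟩ := Om3.existsUnique_diffCompat (f := g) (f' := p ≫ g) (b := 𝟙 Y) p (Category.comp_id _) hd dW
  obtain ⟨c₂, hc₂, -⟩ := Om3.existsUnique_diffCompat (f := p ≫ g) (f' := p) (b := g) (𝟙 W)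
    (Category.id_comp _).symm hdW dP
  haveI : Mono c := S5016.result g (p ≫ g) p rfl hsm Ω d hd ΩW dW hdW c hc
  obtain ⟨hepi, him⟩ := S5975.result p g Ω d hd ΩW dW hdW ΩP dP hdP c hc c₂ hc₂
  let c₃ : ΩW ⟶ ΩP := (Scheme.Modules.pullbackId W).inv.app ΩW ≫ c₂
  have w₃ : c ≫ c₃ = 0 := by
    have h := imageSubobject_arrow_comp c
    rw [← h, Category.assoc]
    have h2 : (imageSubobject c).arrow ≫ c₃ = 0 := by
      rw [him, kernelSubobject_arrow_comp]
    rw [h2, comp_zero]
  have hepi₃ : Epi c₃ := epi_comp _ _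
  let S := ShortComplex.mk c c₃ w₃
  have hS : S.ShortExact :=
    { exact := S.exact_iff_image_eq_kernel.2 him
      mono_f := ‹Mono c›
      epi_g := hepi₃ }
  have hP : FlatMod.IsFinLocFree ΩP := S5018.result p hsm ΩP dP hdP
  have hS' : (S.map (Scheme.Modules.pullback k)).ShortExact :=
    DCK91.shortExact_pullback k S hS (fun x => show Module.Flat _ _ from
      have := Props58.LocFree.free_stalk_of_isFinLocFree hP x
      inferInstance)
  let ψ : Omega.conormal (k ≫ p) ⟶ Omega.conormal k :=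
    (Scheme.Modules.pullbackId X).inv.app (Omega.conormal (k ≫ p)) ≫ ψ₀
  let χ : (Scheme.Modules.pullback (k ≫ p)).obj Ω ⟶ (Scheme.Modules.pullback k).obj ΩW :=
    (Scheme.Modules.pullbackComp k p).inv.app Ω ≫ (Scheme.Modules.pullback k).map c
  let σ := (Scheme.Modules.pullback k).map c₃
  have wψ : ψ ≫ φP = 0 := by rw [Category.assoc, w₀, comp_zero]
  have wχ : χ ≫ σ = 0 := by
    rw [Category.assoc, ← Functor.map_comp, w₃, Functor.map_zero, comp_zero]
  refine ⟨(Scheme.Modules.pullback k).obj ΩP, ψ, χ, φP, σ, wψ, wχ,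
    Strict99.isFinLocFree_pullback k hP, ?_, ?_, fun φ φW hφ hφW => ?_⟩
  · let e : ShortComplex.mk ψ₀ φP w₀ ≅ ShortComplex.mk ψ φP wψ :=
      ShortComplex.isoMk ((Scheme.Modules.pullbackId X).app (Omega.conormal (k ≫ p))) (Iso.refl _) (Iso.refl _)
        (by simp [ψ]) (by simp)
    exact ShortComplex.shortExact_of_iso e hS₀
  · let e : S.map (Scheme.Modules.pullback k) ≅ ShortComplex.mk χ σ wχ :=
      ShortComplex.isoMk ((Scheme.Modules.pullbackComp k p).app Ω) (Iso.refl _) (Iso.refl _)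
        (by simp [χ, S]) (by simp [σ, S])
    exact ShortComplex.shortExact_of_iso e hS'
  refine ⟨hom_ext_pullSect (k ≫ p) fun U s => ?_, hom_ext_pullSect k fun U s => ?_⟩
  · obtain ⟨t, ht⟩ := Om3.exists_sect (i := k) (i' := k ≫ p) (g := p) (gZ := 𝟙 X) hsq U s
    show ((Scheme.Modules.pullback k).map c).app _
        (((Scheme.Modules.pullbackComp k p).inv.app Ω).app _ (φ.app _ (OmegaSh.conormalSect (k ≫ p) U s))) =
      φW.app _ (ψ₀.app _ (((Scheme.Modules.pullbackId X).inv.app _).app _ (OmegaSh.conormalSect (k ≫ p) U s)))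
    rw [hφ U s, pullbackComp_inv_pullSect, pullbackId_inv_app]
    have h1 := hψ₀.2 U s t ht ((k ≫ p) ⁻¹ᵁ U) le_rfl le_rfl
    rw [show ((Omega.conormal k).presheaf.map (homOfLE (le_refl ((k ≫ p) ⁻¹ᵁ U))).op) = 𝟙 _ from
      (Omega.conormal k).presheaf.map_id _] at h1
    refine Eq.trans ?_ (congrArg (φW.app _) h1).symm
    refine Eq.trans ?_ (hφW (p ⁻¹ᵁ U) t).symm
    refine (Om3.map_app_pullSect k c (p ⁻¹ᵁ U) _).trans ?_
    rw [ht]
    exact congrArg _ (hc U _)
  · show ((Scheme.Modules.pullback k).map c₃).app _ (φW.app _ (OmegaSh.conormalSect k U s)) =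
      φP.app _ (OmegaSh.conormalSect k U s)
    rw [hφW U s, hφP U s]
    refine (Om3.map_app_pullSect k c₃ U _).trans (congrArg _ ?_)
    show c₂.app U (((Scheme.Modules.pullbackId W).inv.app ΩW).app U _) = _
    rw [pullbackId_inv_app]
    exact hc₂ U _

/-- A smooth refinement of a factorisation gives a quasi-isomorphism of two-term cotangent complexes. -/
theorem exists_quasiIso_refine [IsClosedImmersion k] [Smooth p] [IsClosedImmersion (k ≫ p)] (g : V ⟶ Y)
    {Ω : V.Modules} {d : OmegaSh.Der g Ω} (hd : OmegaSh.IsUniversal d)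
    {ΩW : W.Modules} {dW : OmegaSh.Der (p ≫ g) ΩW} (hdW : OmegaSh.IsUniversal dW)
    {φ : Omega.conormal (k ≫ p) ⟶ (Scheme.Modules.pullback (k ≫ p)).obj Ω}
    (hφ : OmegaSh.IsConormalDiff (k ≫ p) d φ)
    {φW : Omega.conormal k ⟶ (Scheme.Modules.pullback k).obj ΩW} (hφW : OmegaSh.IsConormalDiff k dW φW) :
    ∃ F : HomologicalComplex.double φ rel₀ ⟶ HomologicalComplex.double φW rel₀, QuasiIso F := by
  obtain ⟨Q, ψ, χ, ρ, σ, w₁, w₂, -, h₁, h₂, h⟩ := exists_sequences k p g hd hdW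
  obtain ⟨e₁, e₂⟩ := h φ φW hφ hφW
  exact exists_quasiIso_double φ φW ψ χ e₁ ρ σ e₂ w₁ w₂ h₁ h₂

end Groth.Agent.CotCx18
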